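import Cfsg.Agent.Lib.KnownSimple.MultM.S44H.ValC0
import Cfsg.Agent.Lib.KnownSimple.MultC.ValH

/-!
# The relations between the relators
-/

set_option autoImplicit false

namespace Cfsg.Agent.Lib.KnownSimple.MultM.S44H

open Cfsg Cfsg.Spor Cfsg.Agent.Lib.Compute Cfsg.Agent.Lib.KnownSimple.PE Cfsg.Agent.Lib.KnownSimple.Leech
open Cfsg.Agent.Lib.KnownSimple Cfsg.Agent.Lib.KnownSimple.AutRigid Cfsg.Agent.Lib.KnownSimple.Pres
open Cfsg.Agent.Lib.KnownSimple.MultC


theorem hEF : ∀ e, e < n * d → chkEdgeG 1099511627776 mskM cKK C.τ d n RL 32 6 27 (lookP parT) (lookP genT) (lg 0 peL) tv e = true := by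
  have h : allBelow fe 1200 = true :=
    allBelow_of_pad (m := 2) (s := 1024) (by norm_num) (fun c hc => by
    interval_cases c
    · exact ve0
    · exact ve1
  )
  intro e he
  exact (allBelow_iff _ _).1 h e he
set_option maxHeartbeats 0 in
set_option maxRecDepth 100000 in
theorem hLn : allBelow (fun q => Nat.blt (((lg [] RL q).length + 1) * 16777216) 1099511627776) 32 = true := by decide +kernel
theorem hE : ∀ e, e < n * d → chkEdge C.τ d n RL 32 6 27 (lookP parT) (lookP genT) (lg 0 peL) (toV 1099511627776 33 tv) e = true :=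
  chkEdge_of_G (by norm_num) (good_of_mask (W := 40) (b := 24) (by norm_num) (by norm_num) (by norm_num) (by decide +kernel) (by decide +kernel))
    (fun l i hl hi => C.hlt l i hl hi) (fun q _ => words_lg hokR q) (len_of_chk hLn) hEF
set_option maxRecDepth 100000 in
/-- The relations. -/
def rowsF : List (ℕ × ℕ × List ℤ) := [(0,1,[.ofNat 0,.ofNat 2,.ofNat 0,.ofNat 0,.ofNat 0,.ofNat 0,.ofNat 0,.ofNat 0,.ofNat 0,.ofNat 0,.ofNat 0,.ofNat 0,.ofNat 0,.ofNat 0,.ofNat 0,.ofNat 0,.ofNat 0,.ofNat 0,.ofNat 0,.ofNat 0,.ofNat 0,.ofNat 0,.ofNat 0,.ofNat 0,.ofNat 0,.ofNat 0,.ofNat 0,.ofNat 0,.ofNat 0,.ofNat 0,.ofNat 0,.ofNat 0,.ofNat 0]),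
  (0,2,[.ofNat 0,.ofNat 0,.ofNat 0,.ofNat 0,.ofNat 0,.ofNat 0,.ofNat 0,.ofNat 0,.ofNat 0,.ofNat 0,.ofNat 0,.ofNat 0,.ofNat 0,.ofNat 0,.ofNat 0,.ofNat 0,.ofNat 0,.ofNat 0,.ofNat 0,.ofNat 0,.ofNat 0,.ofNat 0,.ofNat 0,.ofNat 0,.ofNat 0,.ofNat 0,.ofNat 0,.ofNat 0,.ofNat 0,.ofNat 0,.ofNat 0,.ofNat 0,.ofNat 0]),
  (0,3,[.ofNat 0,.ofNat 0,.ofNat 2,.ofNat 0,.ofNat 0,.ofNat 0,.ofNat 0,.ofNat 0,.ofNat 0,.ofNat 0,.ofNat 0,.ofNat 0,.ofNat 0,.ofNat 0,.ofNat 0,.ofNat 0,.ofNat 0,.ofNat 0,.ofNat 0,.ofNat 0,.ofNat 0,.ofNat 0,.ofNat 0,.ofNat 0,.ofNat 0,.ofNat 0,.ofNat 0,.ofNat 0,.ofNat 0,.ofNat 0,.ofNat 0,.ofNat 0,.ofNat 0]),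
  (0,9,[.ofNat 0,.ofNat 5,.ofNat 0,.ofNat 0,.ofNat 0,.ofNat 0,.ofNat 0,.ofNat 0,.ofNat 0,.ofNat 0,.ofNat 0,.ofNat 0,.ofNat 0,.ofNat 0,.ofNat 0,.ofNat 0,.ofNat 0,.ofNat 0,.ofNat 0,.ofNat 0,.ofNat 0,.ofNat 0,.ofNat 0,.ofNat 0,.ofNat 0,.ofNat 0,.ofNat 0,.ofNat 0,.ofNat 0,.ofNat 0,.ofNat 0,.ofNat 0,.ofNat 0]),
  (0,10,[.ofNat 0,.ofNat 15,.ofNat 15,.ofNat 0,.ofNat 0,.ofNat 0,.ofNat 0,.ofNat 0,.ofNat 0,.ofNat 0,.ofNat 0,.ofNat 0,.ofNat 0,.ofNat 0,.ofNat 0,.ofNat 0,.ofNat 0,.ofNat 0,.ofNat 0,.ofNat 0,.ofNat 0,.ofNat 0,.ofNat 0,.ofNat 0,.ofNat 0,.ofNat 0,.ofNat 0,.ofNat 0,.ofNat 0,.ofNat 0,.ofNat 0,.ofNat 0,.ofNat 0]),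
  (0,12,[.ofNat 0,.ofNat 0,.ofNat 17,.ofNat 0,.ofNat 0,.ofNat 0,.ofNat 0,.ofNat 0,.ofNat 0,.ofNat 0,.ofNat 0,.ofNat 0,.ofNat 0,.ofNat 0,.ofNat 0,.ofNat 0,.ofNat 0,.ofNat 0,.ofNat 0,.ofNat 0,.ofNat 0,.ofNat 0,.ofNat 0,.ofNat 0,.ofNat 0,.ofNat 0,.ofNat 0,.ofNat 0,.ofNat 0,.ofNat 0,.ofNat 0,.ofNat 0,.ofNat 0]),
  (0,15,[.ofNat 3,.ofNat 3,.ofNat 0,.ofNat 0,.ofNat 0,.ofNat 0,.ofNat 0,.ofNat 0,.ofNat 0,.ofNat 0,.ofNat 0,.ofNat 0,.ofNat 0,.ofNat 0,.ofNat 0,.ofNat 0,.ofNat 0,.ofNat 0,.ofNat 0,.ofNat 0,.ofNat 0,.ofNat 0,.ofNat 0,.ofNat 0,.ofNat 0,.ofNat 0,.ofNat 0,.ofNat 0,.ofNat 0,.ofNat 0,.ofNat 0,.ofNat 0,.ofNat 0]),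
  (0,17,[.ofNat 3,.ofNat 1,.ofNat 4,.ofNat 0,.ofNat 0,.ofNat 0,.ofNat 0,.ofNat 0,.ofNat 0,.ofNat 0,.ofNat 0,.ofNat 0,.ofNat 0,.ofNat 0,.ofNat 0,.ofNat 0,.ofNat 0,.ofNat 0,.ofNat 0,.ofNat 0,.ofNat 0,.ofNat 0,.ofNat 0,.ofNat 0,.ofNat 0,.ofNat 0,.ofNat 0,.ofNat 0,.ofNat 0,.ofNat 0,.ofNat 0,.ofNat 0,.ofNat 0]),
  (0,18,[.ofNat 2,.ofNat 1,.ofNat 5,.ofNat 0,.ofNat 0,.ofNat 0,.ofNat 0,.ofNat 0,.ofNat 0,.ofNat 0,.ofNat 0,.ofNat 0,.ofNat 0,.ofNat 0,.ofNat 0,.ofNat 0,.ofNat 0,.ofNat 0,.ofNat 0,.ofNat 0,.ofNat 0,.ofNat 0,.ofNat 0,.ofNat 0,.ofNat 0,.ofNat 0,.ofNat 0,.ofNat 0,.ofNat 0,.ofNat 0,.ofNat 0,.ofNat 0,.ofNat 0]),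
  (0,22,[.ofNat 2,.negSucc 1,.ofNat 0,.ofNat 0,.ofNat 0,.ofNat 0,.ofNat 0,.ofNat 0,.ofNat 0,.ofNat 0,.ofNat 0,.ofNat 0,.ofNat 0,.ofNat 0,.ofNat 0,.ofNat 0,.ofNat 0,.ofNat 0,.ofNat 0,.ofNat 0,.ofNat 0,.ofNat 0,.ofNat 0,.ofNat 0,.ofNat 0,.ofNat 1,.ofNat 0,.ofNat 0,.ofNat 0,.ofNat 0,.ofNat 0,.ofNat 0,.ofNat 0]),
  (0,23,[.ofNat 0,.negSucc 6,.negSucc 4,.ofNat 0,.ofNat 0,.ofNat 0,.ofNat 0,.ofNat 0,.ofNat 0,.ofNat 0,.ofNat 0,.ofNat 0,.ofNat 0,.ofNat 0,.ofNat 0,.ofNat 0,.ofNat 0,.ofNat 0,.ofNat 0,.ofNat 0,.ofNat 0,.ofNat 0,.ofNat 0,.ofNat 0,.ofNat 0,.ofNat 2,.ofNat 0,.ofNat 0,.ofNat 0,.ofNat 0,.ofNat 0,.ofNat 0,.ofNat 0]),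
  (0,24,[.ofNat 1,.ofNat 0,.ofNat 0,.ofNat 0,.ofNat 0,.ofNat 0,.ofNat 0,.ofNat 0,.ofNat 0,.ofNat 0,.ofNat 0,.ofNat 0,.ofNat 0,.ofNat 0,.ofNat 0,.ofNat 0,.ofNat 0,.ofNat 0,.ofNat 0,.ofNat 0,.ofNat 0,.ofNat 0,.ofNat 0,.ofNat 0,.ofNat 0,.ofNat 1,.ofNat 0,.ofNat 0,.ofNat 0,.ofNat 0,.ofNat 0,.ofNat 0,.ofNat 0]),
  (0,26,[.ofNat 2,.negSucc 1,.ofNat 0,.ofNat 0,.ofNat 0,.ofNat 0,.ofNat 0,.ofNat 0,.ofNat 0,.ofNat 0,.ofNat 0,.ofNat 0,.ofNat 0,.ofNat 0,.ofNat 0,.ofNat 0,.ofNat 0,.ofNat 0,.ofNat 0,.ofNat 0,.ofNat 0,.ofNat 0,.ofNat 0,.ofNat 0,.ofNat 0,.ofNat 1,.ofNat 0,.ofNat 0,.ofNat 0,.ofNat 0,.ofNat 0,.ofNat 0,.ofNat 0]),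
  (0,27,[.ofNat 4,.ofNat 6,.ofNat 5,.ofNat 0,.ofNat 0,.ofNat 0,.negSucc 0,.negSucc 0,.ofNat 0,.negSucc 0,.ofNat 1,.ofNat 0,.ofNat 0,.ofNat 0,.ofNat 0,.ofNat 0,.ofNat 0,.ofNat 0,.ofNat 0,.ofNat 0,.ofNat 0,.ofNat 0,.ofNat 0,.ofNat 0,.ofNat 0,.negSucc 0,.ofNat 0,.ofNat 0,.ofNat 0,.ofNat 0,.ofNat 0,.ofNat 0,.ofNat 0]),
  (0,28,[.ofNat 0,.negSucc 0,.ofNat 0,.ofNat 0,.ofNat 0,.ofNat 0,.ofNat 0,.ofNat 0,.ofNat 0,.ofNat 0,.ofNat 0,.ofNat 0,.ofNat 0,.ofNat 0,.ofNat 0,.ofNat 0,.ofNat 0,.ofNat 0,.ofNat 0,.ofNat 0,.ofNat 0,.ofNat 0,.ofNat 0,.ofNat 0,.ofNat 0,.ofNat 0,.ofNat 0,.ofNat 0,.ofNat 0,.ofNat 0,.ofNat 0,.ofNat 0,.ofNat 0]),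
  (0,30,[.ofNat 0,.ofNat 0,.negSucc 0,.ofNat 0,.ofNat 0,.ofNat 0,.ofNat 0,.ofNat 0,.ofNat 0,.ofNat 0,.ofNat 0,.ofNat 0,.ofNat 0,.ofNat 0,.ofNat 0,.ofNat 0,.ofNat 0,.ofNat 0,.ofNat 0,.ofNat 0,.ofNat 0,.ofNat 0,.ofNat 0,.ofNat 0,.ofNat 0,.ofNat 0,.ofNat 0,.ofNat 0,.ofNat 0,.ofNat 0,.ofNat 0,.ofNat 0,.ofNat 0]),
  (1,7,[.negSucc 3,.negSucc 3,.negSucc 3,.ofNat 0,.ofNat 0,.ofNat 0,.ofNat 7,.ofNat 0,.negSucc 0,.ofNat 8,.negSucc 1,.ofNat 0,.ofNat 0,.ofNat 0,.ofNat 0,.ofNat 0,.ofNat 0,.ofNat 0,.ofNat 0,.ofNat 0,.ofNat 0,.ofNat 0,.ofNat 0,.ofNat 0,.ofNat 0,.ofNat 1,.ofNat 1,.ofNat 0,.ofNat 0,.ofNat 0,.ofNat 0,.ofNat 0,.ofNat 0]),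
  (2,8,[.negSucc 9,.negSucc 7,.negSucc 9,.ofNat 0,.ofNat 0,.ofNat 0,.ofNat 12,.ofNat 9,.ofNat 9,.ofNat 17,.ofNat 2,.negSucc 0,.ofNat 2,.ofNat 0,.ofNat 0,.ofNat 0,.ofNat 0,.ofNat 0,.ofNat 0,.ofNat 0,.ofNat 0,.ofNat 0,.ofNat 0,.negSucc 5,.negSucc 0,.ofNat 1,.ofNat 4,.ofNat 0,.negSucc 1,.ofNat 0,.ofNat 0,.ofNat 0,.ofNat 0]),
  (2,12,[.negSucc 1,.ofNat 0,.negSucc 0,.ofNat 1,.ofNat 0,.ofNat 0,.negSucc 0,.ofNat 0,.ofNat 7,.ofNat 8,.negSucc 0,.ofNat 0,.ofNat 0,.ofNat 0,.ofNat 0,.ofNat 0,.ofNat 0,.ofNat 0,.ofNat 0,.ofNat 0,.ofNat 0,.ofNat 0,.ofNat 0,.ofNat 0,.ofNat 0,.ofNat 0,.ofNat 1,.ofNat 0,.ofNat 0,.ofNat 0,.ofNat 0,.ofNat 0,.ofNat 0]),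
  (2,13,[.ofNat 3,.ofNat 0,.ofNat 2,.ofNat 1,.ofNat 0,.ofNat 0,.negSucc 2,.negSucc 2,.negSucc 0,.negSucc 8,.ofNat 6,.ofNat 0,.negSucc 0,.ofNat 0,.ofNat 0,.ofNat 0,.ofNat 0,.ofNat 0,.ofNat 0,.ofNat 0,.ofNat 0,.ofNat 0,.ofNat 0,.ofNat 3,.ofNat 1,.ofNat 0,.negSucc 1,.ofNat 0,.ofNat 1,.ofNat 0,.ofNat 0,.ofNat 0,.ofNat 0]),
  (2,29,[.ofNat 0,.ofNat 0,.ofNat 0,.ofNat 0,.ofNat 0,.ofNat 0,.ofNat 0,.ofNat 0,.ofNat 2,.ofNat 0,.ofNat 0,.ofNat 1,.ofNat 0,.ofNat 0,.ofNat 0,.ofNat 0,.ofNat 0,.ofNat 0,.ofNat 0,.ofNat 0,.ofNat 0,.negSucc 0,.ofNat 0,.ofNat 0,.ofNat 0,.ofNat 0,.ofNat 0,.ofNat 0,.ofNat 0,.ofNat 0,.ofNat 0,.ofNat 0,.ofNat 0]),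
  (5,14,[.ofNat 10,.ofNat 5,.ofNat 8,.ofNat 3,.ofNat 1,.negSucc 1,.negSucc 0,.ofNat 1,.negSucc 13,.ofNat 7,.ofNat 22,.ofNat 1,.ofNat 2,.ofNat 0,.ofNat 0,.negSucc 0,.ofNat 0,.ofNat 0,.ofNat 0,.ofNat 0,.ofNat 0,.ofNat 8,.negSucc 2,.ofNat 3,.ofNat 1,.negSucc 2,.negSucc 2,.negSucc 0,.negSucc 0,.negSucc 1,.negSucc 1,.ofNat 0,.ofNat 1]),
  (13,28,[.ofNat 0,.ofNat 0,.ofNat 0,.ofNat 1,.ofNat 0,.ofNat 0,.negSucc 6,.ofNat 2,.negSucc 2,.ofNat 2,.ofNat 0,.ofNat 2,.ofNat 2,.ofNat 0,.ofNat 0,.negSucc 1,.ofNat 0,.ofNat 0,.ofNat 0,.ofNat 0,.ofNat 0,.ofNat 2,.negSucc 0,.negSucc 0,.ofNat 1,.negSucc 0,.ofNat 0,.ofNat 0,.negSucc 0,.ofNat 1,.ofNat 0,.ofNat 0,.ofNat 0]),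
  (21,26,[.negSucc 0,.ofNat 0,.ofNat 0,.ofNat 2,.ofNat 0,.ofNat 0,.negSucc 6,.negSucc 2,.ofNat 6,.ofNat 1,.negSucc 2,.ofNat 3,.ofNat 2,.ofNat 0,.ofNat 0,.negSucc 0,.ofNat 0,.ofNat 0,.ofNat 0,.ofNat 0,.ofNat 0,.negSucc 2,.ofNat 1,.ofNat 0,.negSucc 0,.ofNat 4,.ofNat 0,.ofNat 0,.ofNat 1,.ofNat 0,.negSucc 0,.negSucc 0,.ofNat 0]),
  (28,23,[.negSucc 5,.ofNat 6,.ofNat 0,.negSucc 2,.ofNat 0,.ofNat 0,.ofNat 0,.ofNat 5,.negSucc 4,.ofNat 12,.negSucc 0,.negSucc 2,.ofNat 0,.ofNat 0,.ofNat 0,.ofNat 1,.ofNat 0,.ofNat 0,.ofNat 0,.ofNat 0,.ofNat 0,.ofNat 3,.ofNat 0,.ofNat 4,.negSucc 4,.negSucc 0,.ofNat 5,.negSucc 1,.negSucc 2,.ofNat 3,.negSucc 0,.negSucc 0,.ofNat 0]),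
  (30,15,[.ofNat 0,.ofNat 0,.ofNat 0,.ofNat 0,.ofNat 0,.ofNat 0,.ofNat 0,.ofNat 1,.ofNat 0,.ofNat 0,.ofNat 0,.ofNat 0,.ofNat 1,.ofNat 0,.ofNat 0,.ofNat 0,.ofNat 0,.ofNat 0,.ofNat 0,.ofNat 0,.ofNat 0,.ofNat 1,.negSucc 0,.ofNat 0,.ofNat 0,.ofNat 0,.ofNat 0,.ofNat 0,.ofNat 0,.ofNat 0,.ofNat 0,.ofNat 0,.ofNat 0]),
  (43,11,[.ofNat 185,.ofNat 85,.ofNat 150,.negSucc 19,.ofNat 0,.ofNat 0,.ofNat 15,.negSucc 214,.negSucc 184,.negSucc 394,.ofNat 135,.ofNat 15,.negSucc 89,.ofNat 0,.ofNat 0,.ofNat 65,.ofNat 0,.ofNat 0,.ofNat 0,.ofNat 0,.ofNat 0,.negSucc 44,.ofNat 10,.ofNat 215,.negSucc 14,.negSucc 14,.negSucc 79,.negSucc 4,.ofNat 60,.negSucc 29,.negSucc 29,.ofNat 0,.ofNat 5]),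
  (49,28,[.ofNat 1,.ofNat 0,.ofNat 0,.negSucc 0,.ofNat 0,.ofNat 0,.ofNat 4,.negSucc 4,.ofNat 0,.negSucc 0,.ofNat 1,.negSucc 0,.negSucc 0,.ofNat 0,.ofNat 0,.ofNat 2,.ofNat 0,.ofNat 0,.ofNat 0,.ofNat 0,.ofNat 0,.negSucc 0,.ofNat 1,.ofNat 0,.ofNat 0,.ofNat 1,.ofNat 0,.ofNat 0,.ofNat 0,.negSucc 0,.ofNat 0,.ofNat 0,.ofNat 0]),
  (90,31,[.ofNat 32,.negSucc 22,.ofNat 5,.negSucc 82,.ofNat 0,.ofNat 0,.ofNat 88,.negSucc 82,.negSucc 14,.negSucc 102,.negSucc 3,.negSucc 39,.negSucc 75,.ofNat 0,.ofNat 0,.ofNat 23,.ofNat 0,.ofNat 0,.ofNat 0,.ofNat 0,.ofNat 0,.ofNat 33,.ofNat 4,.ofNat 32,.ofNat 8,.ofNat 10,.negSucc 16,.negSucc 5,.ofNat 16,.ofNat 3,.negSucc 3,.ofNat 2,.ofNat 1]),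
  (91,15,[.ofNat 0,.ofNat 0,.ofNat 0,.ofNat 0,.ofNat 0,.ofNat 0,.negSucc 0,.negSucc 0,.ofNat 0,.ofNat 0,.ofNat 0,.ofNat 1,.ofNat 1,.ofNat 0,.ofNat 0,.ofNat 1,.ofNat 0,.ofNat 0,.ofNat 0,.ofNat 0,.ofNat 0,.negSucc 0,.ofNat 0,.ofNat 0,.ofNat 0,.ofNat 0,.ofNat 0,.ofNat 0,.ofNat 0,.ofNat 0,.ofNat 0,.ofNat 0,.ofNat 0]),
  (126,18,[.ofNat 1,.ofNat 4,.ofNat 3,.ofNat 0,.ofNat 0,.ofNat 0,.negSucc 0,.negSucc 2,.ofNat 2,.ofNat 1,.ofNat 0,.ofNat 1,.ofNat 0,.ofNat 0,.ofNat 0,.ofNat 0,.ofNat 0,.ofNat 0,.ofNat 0,.ofNat 0,.ofNat 0,.ofNat 0,.ofNat 0,.ofNat 0,.ofNat 0,.ofNat 0,.ofNat 0,.ofNat 0,.ofNat 0,.ofNat 0,.ofNat 0,.ofNat 0,.ofNat 0]),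
  (143,22,[.negSucc 17,.ofNat 0,.negSucc 20,.ofNat 133,.ofNat 1,.negSucc 3,.negSucc 431,.ofNat 68,.negSucc 92,.negSucc 50,.negSucc 84,.ofNat 103,.ofNat 90,.ofNat 0,.ofNat 0,.negSucc 14,.ofNat 0,.ofNat 0,.ofNat 0,.ofNat 0,.ofNat 0,.negSucc 153,.ofNat 39,.ofNat 90,.negSucc 61,.ofNat 14,.ofNat 16,.ofNat 7,.ofNat 39,.ofNat 30,.negSucc 40,.negSucc 1,.negSucc 10]),
  (158,24,[.negSucc 30,.negSucc 51,.negSucc 46,.ofNat 25,.ofNat 0,.ofNat 0,.negSucc 149,.negSucc 6,.ofNat 26,.negSucc 44,.negSucc 91,.ofNat 37,.ofNat 7,.ofNat 0,.ofNat 0,.ofNat 3,.ofNat 0,.ofNat 0,.ofNat 0,.ofNat 0,.ofNat 0,.negSucc 80,.ofNat 22,.ofNat 36,.negSucc 27,.ofNat 30,.ofNat 4,.ofNat 5,.ofNat 25,.ofNat 23,.negSucc 13,.negSucc 2,.negSucc 4]),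
  (162,17,[.negSucc 99,.negSucc 316,.negSucc 197,.ofNat 8,.ofNat 0,.ofNat 1,.ofNat 11,.negSucc 30,.ofNat 26,.negSucc 234,.negSucc 97,.negSucc 32,.negSucc 82,.ofNat 0,.ofNat 0,.ofNat 1,.ofNat 0,.ofNat 0,.ofNat 0,.ofNat 0,.ofNat 0,.negSucc 27,.ofNat 11,.ofNat 117,.negSucc 13,.ofNat 98,.negSucc 46,.ofNat 0,.ofNat 21,.ofNat 17,.negSucc 4,.ofNat 3,.negSucc 1])]
set_option maxRecDepth 100000 in
/-- The relations, packed. -/
def rowsP : List (ℕ × ℕ × ℕ × ℕ) := [(0,1,2199023255552,0),
  (0,2,0,0),
  (0,3,2417851639229258349412352,0),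
  (0,9,5497558138880,0),
  (0,10,18133887294235930295009280,0),
  (0,12,20551738933448695970004992,0),
  (0,15,3298534883331,0),
  (0,17,4835703278459616210452483,0),
  (0,18,6044629098074245385158658,0),
  (0,22,10715086071862673209484250490600018105614048117055336074437503883703510511249361224931983788156958581275946729175531468251871452856923140435984577574698574803934567774824230985421074605062371141877954182153046474983581941267398767559165543946077062914571196477686542167660429831652624386837205668069378,2199023255552),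
  (0,23,21430172143725346418968500981200036211228096234110672148875007767407021022498722449863967576313917162551893458351062936503742905713846280871969155149397149607869135549648461970842149210124742283755908364306092949967163882534797535118331087892154125829142392955373084335320859663305248773674411336138752,6044629098080842454925312),
  (0,24,10715086071862673209484250490600018105614048117055336074437503883703510511249361224931983788156958581275946729175531468251871452856923140435984577574698574803934567774824230985421074605062371141877954182153046474983581941267398767559165543946077062914571196477686542167660429831652624386837205668069377,0),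
  (0,26,10715086071862673209484250490600018105614048117055336074437503883703510511249361224931983788156958581275946729175531468251871452856923140435984577574698574803934567774824230985421074605062371141877954182153046474983581941267398767559165543946077062914571196477686542167660429831652624386837205668069378,2199023255552),
  (0,27,2582249878086908589655919172003011874329705792829223512830659356540647622016841194629645353280143876065001251715690790916,10715086071862673209484250490600018105614048117055336074437503883703510511249361224931983788156958581275946729175531468251871452856923140435984577574698574803934567774824230985421074605062371144226496764926879702873064480725628022430766077094688086724066311159653135249274021983380319797497315201122304),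
  (0,28,0,1099511627776),
  (0,30,0,1208925819614629174706176),
  (1,7,11781361728644388618966637171564436744729373947301914403188569134827606145473014630376432131026232264468284741812527581816701977757273479224548172354824560792796095238295919010842566494772685098817539615508509232910920755416095074115856464611336209203398665403881029115388971063701121943424267230734483392028475392,5164499756173817179311840479993059669569493980680153195213433315785817600686452336300898528780006279215634829822327259140),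
  (2,8,47125446914545409217650960666629294227445695734890815468403110531087112070240947989971980440430133106508668091506282487079281316624338302539621919997990289438460285228778115837146425270597240371079057437358489305952803894012152709941207521066766270057425394132631875919846110963602248532146994982313886206715232256,28485584767929776325836961026864930432818743280815764773953528403039343104032163682090700272586948041044975490374873834098939961399860377676070642446083256019843150587937396627292612622411383607632477908325609031048564896316126818738327898108386856932426647756055438834153311793640111642480348606975493318725070025172143616512338142691338),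
  (2,12,11781361728633673532894774498354952494238773929196300355071513798753168641589311119865182769801300280680127783231251635087526446289021607771691249214388576215221396663491984443067742263787264024212477244366631278728782660850362938545165830983352301070806116965539871983100484203325057769328662256250370572200968192,2582249878086908589655919172003011874329705792830990359895437740870230919517584113145472837177014659319844392803214819330),
  (2,13,14242792383964888162918480513432465216409371640412755043982464201059848243210019435200788249722271524285921698416043391394853193751162996370976326352654280468037279628060427898578907858228980797464395280871150547490886320964163177586165652537242390551606493215734252011841651180835692569783542937536620266125899459625084957765341454270467,23562723457267347065789548996709904988477547858392600710143027597506337283178622239730365539602600561360255566462503270175052892578043215543382498428777152430442793326987090634685800519805909645654747655022571357520785692424891703869367215914202139694605339239708175080075293322310133655365985517606410100297170944),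
  (2,29,2839213766779714416208296124562517716590885637026656337764614502888476448398369682706239331744722143616168051585758357598793711484928,7331559403129590068331208687020758653624765228075687047537011123791632385370343464792392772051104864109916034360063928339045596353810784435313926666640532382851295822842678298180301122938618566718730242107326783353838221723324821405531849499257419595776),
  (5,14,20815864389328798163850480654728171077230524494533409610638224700807216119346720596024478883464658114998854654497576750410498432924266489332185670400557138893105375005427569800446912082145005116029805668583699563422633369221545155952201687585520357349247091771938625610935901134251901425691844900402687351168890454095771453508187363573103040024047144487115699012718801845110720836927498,34436958912802821467811107334467335530585989953207394472313967087154429391735850990243463898929879539997634213622677056288622425308783452452122535134163198214439044026499654557418212997582227185081692480706732109237697251091354267865761706227384508573757954783215789758717536050256250620634926211524940806599270741896725235824256832481716271298945730677108113408),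
  (13,28,15660115838168849784840292792116666063138768318320844556850031523469454035798621683759825043356766318178520047947281846239212760604887270523044022913054876208139313650386011341193872743150051739122951929970567885665293436547861758769115569683444983453010661516154752796624334880373946464944774424097096533104183635809715486324193997195996457271820288,14242792383964888162918480513432465227124457712265682939455296965956592010935043684583348786122480424410990513488437467110503410256985040656557866466152206389313354579260380091705387580612750552796905475346753886208210624447708158806812042679152515619146627403146931432168705926848652888952687618117390378688933246324631475408205162479616),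
  (21,26,14242792383964888162918480513432465259269715927853702567908039574445185845996046289332680071493916921811862116801942152329999921070036027359178082047970456640253420474693344289242919173542559819411374907636517054458376642472864488782202520596900002862286959580127996557223395015151663109898264944855723699609897095758971096735973659115520,18931918374935530739299246276448697188021792612147451428077045941163803687775691893408432643526992695549982885141702742811635404211916795359122090778202036737770625586625737323708426137444555803504123660538266004546127543757955958521748681231905418556619218089846147769833854827263292925102544417404744319624020821629523888218700919056213230854754257263758658472324806737921),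
  (28,23,46980347514506549354520878376349998248323113598130901335023937826241090414045739479040937846848580032694385478610454180419857745657435860810410660017583426885680226202350918187358115623299365319080195157836570051632999578555190598224234217755056777402559026154829502990198975650121077529676504919607443471025296465145708470549078857739551636732248064,18931918374935530739299246276448697230750169764068023405255823240610318752098914301821459550139766209756438140570919719472828739396936034969116555696017148362744994419546943027260745320842860463273338797667691521251841191371458007573618111482719137888860920157341332339978327219685942587954163064639716690920644653261807246941616555424159889000989886200475266015503895756806),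
  (30,15,7331559403129590068331208687020758653624765228075687047537011123791632385370343464792392772051104864109916037481812478655037827735408014228480232415238675047822446682001580592444265671775158148931656824505940350019821482651199529263246433072747934384128,8061134813471454564702450331367746071149403778627342561766978592325956765086744071570087522699847227396765060321916636335485039665263146015175460486800225477728068298324662539195732386420081192825687147647265448061340763744378078290380812053940375922997109693874176),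
  (43,11,104079321946643990819252403273640855386152622473521615596229016793811189427539550893106956715747422432222480301877480886506115626555927608928241790755831993423475424077586755012347328797563761139269938861928978262500398203237962678012086770354401310804702625121525531090903265659501446557713422628579781385332528520283214576593990591523486823771466530896274552230969746059798963426427065,516554383692042322017166396375124273355929963404636767512636095387703919692601408419820447351109166939669191383087290383539725572831712250524627667522295271589603115121996821854582247884119952220852586374508579845760084652856829783918705795536731846408803775829389833138624720005823366196166187500181680860524477661488286669846923646800845854802546552781930496000),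
  (49,28,10715086071862673209484250490600018113675182930526790639139954215071256582398765003559326349923937173601903494262275539830258006694532353749774453623997533441444499904572250800587852333493780329340428429196295115085396245969668569898355359731026672107547530650707063081558036900022632306234112327286785,15660115838168849784840292792116666063138768318320844556850021778155442635799541330377437168168448110392259323349686647124068526897542879331713481610941457186756296713084409589060896891208135431164795435945789760533216028228659614567441010362901149623828334130424614335366274233554297668641011483639317788091847531103766017703299148909152965687771136),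
  (90,31,20815864389366662000600317279247856845262533268888495123255869030770573191480429135458631943285281445605434116048382351840383781307828623027089181859375793074999220315365766155005446036265476388515023435115194489052986055183708095444239849495684040486331008809924516800584714359943515297092962277150930628970018540022725617463541875280343470934493419818572319791128197237993296101376032,68873917825543002472269510784210542012042164252002320283677932855726419838468770179422570754790643281714949804816863424574145339552830557338426444200132815667255846839256608227385232495442559542133164975536472612160276302458733099338160244597668014304336348889371986031434035222272065541662505850982056432503495039544622557485226717960986874572418037269716271104),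
  (91,15,4149515568880992958512407863691161154134194782561268345144034273900027413286068806776997111371445590086544196521615781521894214776896680259564444883492315182533634740242664367587328,7331559403129590068331208687020758653624765228075687047537011123791632385370343464792392772051104864109916034360063928339045596353810784435313926666640532382851295822844620967072528618856602807009883344311469933111406188728473509434228875390663920713728),
  (126,18,2839213766779714416208298473105100490424113526507253127101641878571025356718240389997210863953747258224611518911534201215782314049537,5828006676678954059823164104800140017427963435672246047652312848174834461816918114304),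
  (143,22,469803475145620962448183505078063284497845725269269420005752398324123264088911837790629270744829188331584625648768059162833121903860774577640990526718251422636851162689197985797007224115881713652794289061578159436008547382892470400901997180407393702678287455855340492409057700605000547812634473221881031275784892337162152913861615977023617631969607680,228974508282654643639105829784187279386362771461973695355028626228800603903603201759880658730785492078740169994227055545924752542714319389692544413509508736088779077155006266098062865474826047808199030754234787431403904370386808141124261312142640706781276976746640785906659225898242807304274723804359376536097046005174555155911154348334624167335433480231669701525227601180258325334327314),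
  (158,24,360182664278239614860925921191477339851550802665156755865833810188656718899920761479977680553338884349327866455876745541809134080616452039031631669387555897547229767441999343977641071243519497333308186917370391894865682894458302462290013090302452071201512059267609926207037869131052942939106384467744582116670792868665034658020255790875173929424519168,104079321946700786574377399269132773368238767305385770010017885237492511670146233456790701901151314438406895489936378457636863800500078684819965696550142317571742994452144369099365591807194864056435247759006273603167910320585604184898692347225780880086452768107079423000043431726857593644606567705301495511277502219526996731077451750489990246440448212012501893998998812276528037624807455),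
  (162,17,56795755124754936779528847799461138600522202278231731914605955894869393401910579399497744253062769167189829318469364324970080406805326611862282545965856164695632792463553283829037163436666284375716180487800705487825181500525515064066246427117163135758833508562847275929106319610046496973459764473297747976136948190842885931909422549466101155908927936637332389038061271384064,41631728778657596327701047401853624083214139325955299484453867301238160035867051104015695816687290805176710272449309830975947637845595111678718682672257795332229386180691710384505906413243926050684537665223416452979862743184141905667854087432783503371349606850205257786079785584686288060381389375753158005455401550620921267728464008425398723739312676108317871529675271582473206225698916)]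
set_option maxHeartbeats 0 in
set_option maxRecDepth 100000 in
theorem hFm : (rowsP.map fun x => (x.1, x.2.1, decV 1099511627776 33 x.2.2.1 x.2.2.2)) = rowsF := by decide +kernel
set_option maxHeartbeats 0 in
set_option maxRecDepth 100000 in
theorem hFb : (rowsP.all fun x => bcond (maskOK mskM cKK x.2.2.1) (maskOK mskM cKK x.2.2.2) false) = true := by decide +kernel
set_option maxHeartbeats 0 in
set_option maxRecDepth 100000 in
theorem hFc : (rowsP.all (chkRowG τ d n RL 32 (n * d) 957 tv)) = true := by decide +kernel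
theorem hF : ∀ x ∈ rowsF, chkRow C.τ d n RL 32 (n * d) 957 (toV 1099511627776 33 tv) x = true :=
  chkRow_of_G (by norm_num) (good_of_mask (W := 40) (b := 24) (by norm_num) (by norm_num) (by norm_num) (by decide +kernel) (by decide +kernel))
    (fun l i hl hi => C.hlt l i hl hi) (fun q _ => words_lg hokR q) (len_of_chk hLn) hEF rowsP rowsF hFm hFb hFc
set_option maxRecDepth 100000 in
/-- A combination. -/
def cb0 : List (ℕ × ℤ) := [(0,.ofNat 7),(1,.negSucc 5),(2,.ofNat 1),(3,.negSucc 1),(6,.ofNat 3),(7,.negSucc 1),(8,.ofNat 5),(9,.negSucc 1),(13,.negSucc 1),(14,.negSucc 3),(20,.ofNat 3),(22,.ofNat 2),(27,.ofNat 2),(29,.negSucc 1),(30,.negSucc 2)]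
set_option maxHeartbeats 0 in
set_option maxRecDepth 100000 in
theorem hcb0 : chkComb 6 27 rowsF 0 0 (0) cb0 = true := by decide +kernel
set_option maxRecDepth 100000 in
/-- A combination. -/
def cb1 : List (ℕ × ℤ) := [(0,.negSucc 0),(14,.negSucc 1)]
set_option maxHeartbeats 0 in
set_option maxRecDepth 100000 in
theorem hcb1 : chkComb 6 27 rowsF 0 1 (0) cb1 = true := by decide +kernel
set_option maxRecDepth 100000 in
/-- A combination. -/
def cb2 : List (ℕ × ℤ) := [(1,.negSucc 0)]
set_option maxHeartbeats 0 in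
set_option maxRecDepth 100000 in
theorem hcb2 : chkComb 6 27 rowsF 0 2 (0) cb2 = true := by decide +kernel
set_option maxRecDepth 100000 in
/-- A combination. -/
def cb3 : List (ℕ × ℤ) := [(2,.negSucc 0),(15,.negSucc 1)]
set_option maxHeartbeats 0 in
set_option maxRecDepth 100000 in
theorem hcb3 : chkComb 6 27 rowsF 0 3 (0) cb3 = true := by decide +kernel
set_option maxRecDepth 100000 in
/-- A combination. -/
def cb4 : List (ℕ × ℤ) := [(0,.negSucc 774),(1,.ofNat 129),(2,.ofNat 89),(3,.ofNat 71),(5,.ofNat 32),(6,.ofNat 85),(7,.ofNat 59),(8,.negSucc 418),(9,.ofNat 49),(10,.negSucc 28),(11,.ofNat 6),(12,.ofNat 4),(14,.ofNat 126),(15,.ofNat 1),(18,.negSucc 31),(20,.negSucc 248),(22,.negSucc 78),(23,.negSucc 4),(24,.ofNat 3),(25,.ofNat 23),(27,.negSucc 46),(28,.negSucc 0),(29,.ofNat 22),(30,.ofNat 322)]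
set_option maxHeartbeats 0 in
set_option maxRecDepth 100000 in
theorem hcb4 : chkComb 6 27 rowsF 0 4 (0) cb4 = true := by decide +kernel
set_option maxRecDepth 100000 in
/-- A combination. -/
def cb5 : List (ℕ × ℤ) := [(0,.ofNat 6),(1,.negSucc 6),(2,.ofNat 3),(3,.negSucc 2),(6,.ofNat 5),(7,.negSucc 2),(8,.ofNat 6),(9,.negSucc 2),(13,.negSucc 2),(14,.negSucc 8),(20,.ofNat 4),(22,.ofNat 3),(27,.ofNat 3),(29,.negSucc 2),(30,.negSucc 2)]
set_option maxHeartbeats 0 in
set_option maxRecDepth 100000 in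
theorem hcb5 : chkComb 6 27 rowsF 0 5 (0) cb5 = true := by decide +kernel
set_option maxRecDepth 100000 in
/-- A combination. -/
def cb6 : List (ℕ × ℤ) := [(0,.ofNat 12),(1,.negSucc 16),(2,.ofNat 4),(3,.negSucc 3),(6,.ofNat 8),(7,.negSucc 4),(8,.ofNat 11),(9,.negSucc 4),(13,.negSucc 4),(14,.negSucc 9),(20,.ofNat 5),(22,.ofNat 5),(27,.ofNat 5),(29,.negSucc 3),(30,.negSucc 5)]
set_option maxHeartbeats 0 in
set_option maxRecDepth 100000 in
theorem hcb6 : chkComb 6 27 rowsF 0 6 (0) cb6 = true := by decide +kernel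
set_option maxRecDepth 100000 in
/-- A combination. -/
def cb7 : List (ℕ × ℤ) := [(0,.ofNat 34),(1,.negSucc 34),(2,.ofNat 14),(3,.negSucc 12),(5,.negSucc 0),(6,.ofNat 26),(7,.negSucc 14),(8,.ofNat 32),(9,.negSucc 14),(10,.negSucc 0),(13,.negSucc 16),(14,.negSucc 30),(15,.negSucc 16),(16,.negSucc 0),(18,.ofNat 1),(20,.ofNat 18),(22,.ofNat 15),(25,.ofNat 1),(27,.ofNat 16),(29,.negSucc 14),(30,.negSucc 16)]
set_option maxHeartbeats 0 in
set_option maxRecDepth 100000 in
theorem hcb7 : chkComb 6 27 rowsF 0 7 (0) cb7 = true := by decide +kernel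
set_option maxRecDepth 100000 in
/-- A combination. -/
def cb8 : List (ℕ × ℤ) := [(0,.negSucc 3887),(1,.ofNat 645),(2,.ofNat 467),(3,.ofNat 358),(5,.ofNat 156),(6,.ofNat 431),(7,.ofNat 294),(8,.negSucc 2080),(9,.ofNat 240),(10,.negSucc 148),(11,.ofNat 30),(12,.ofNat 20),(13,.negSucc 9),(14,.ofNat 612),(15,.ofNat 5),(17,.negSucc 0),(18,.negSucc 155),(20,.negSucc 1237),(22,.negSucc 387),(23,.negSucc 24),(24,.ofNat 15),(25,.ofNat 119),(27,.negSucc 223),(28,.negSucc 4),(29,.ofNat 105),(30,.ofNat 1604)]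
set_option maxHeartbeats 0 in
set_option maxRecDepth 100000 in
theorem hcb8 : chkComb 6 27 rowsF 0 8 (0) cb8 = true := by decide +kernel
set_option maxRecDepth 100000 in
/-- A combination. -/
def cb9 : List (ℕ × ℤ) := [(3,.negSucc 0),(14,.negSucc 4)]
set_option maxHeartbeats 0 in
set_option maxRecDepth 100000 in
theorem hcb9 : chkComb 6 27 rowsF 0 9 (0) cb9 = true := by decide +kernel
set_option maxRecDepth 100000 in
/-- A combination. -/
def cb10 : List (ℕ × ℤ) := [(4,.negSucc 0),(14,.negSucc 14),(15,.negSucc 14)]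
set_option maxHeartbeats 0 in
set_option maxRecDepth 100000 in
theorem hcb10 : chkComb 6 27 rowsF 0 10 (0) cb10 = true := by decide +kernel
set_option maxRecDepth 100000 in
/-- A combination. -/
def cb11 : List (ℕ × ℤ) := [(0,.negSucc 3065),(1,.negSucc 268),(2,.negSucc 233),(3,.negSucc 13),(5,.ofNat 333),(6,.ofNat 748),(7,.ofNat 67),(8,.negSucc 2106),(9,.ofNat 98),(10,.negSucc 44),(11,.ofNat 60),(12,.ofNat 26),(14,.ofNat 589),(15,.ofNat 7),(18,.negSucc 332),(20,.negSucc 1066),(22,.negSucc 365),(23,.negSucc 42),(24,.ofNat 26),(25,.ofNat 70),(26,.negSucc 0),(27,.negSucc 236),(28,.negSucc 6),(29,.negSucc 117),(30,.ofNat 1585),(32,.ofNat 1)]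
set_option maxHeartbeats 0 in
set_option maxRecDepth 100000 in
theorem hcb11 : chkComb 6 27 rowsF 0 11 (0) cb11 = true := by decide +kernel
set_option maxRecDepth 100000 in
/-- A combination. -/
def cb12 : List (ℕ × ℤ) := [(5,.negSucc 0),(15,.negSucc 16)]
set_option maxHeartbeats 0 in
set_option maxRecDepth 100000 in
theorem hcb12 : chkComb 6 27 rowsF 0 12 (0) cb12 = true := by decide +kernel
set_option maxRecDepth 100000 in
/-- A combination. -/
def cb13 : List (ℕ × ℤ) := [(0,.negSucc 3832),(1,.ofNat 622),(2,.ofNat 433),(3,.ofNat 346),(5,.ofNat 162),(6,.ofNat 428),(7,.ofNat 290),(8,.negSucc 2083),(9,.ofNat 242),(10,.negSucc 141),(11,.ofNat 30),(12,.ofNat 20),(14,.ofNat 629),(15,.ofNat 5),(18,.negSucc 161),(19,.negSucc 0),(20,.negSucc 1236),(22,.negSucc 392),(23,.negSucc 24),(24,.ofNat 15),(25,.ofNat 112),(27,.negSucc 235),(28,.negSucc 4),(29,.ofNat 107),(30,.ofNat 1600)]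
set_option maxHeartbeats 0 in
set_option maxRecDepth 100000 in
theorem hcb13 : chkComb 6 27 rowsF 0 13 (0) cb13 = true := by decide +kernel
set_option maxRecDepth 100000 in
/-- A combination. -/
def cb14 : List (ℕ × ℤ) := [(0,.negSucc 4719),(1,.ofNat 784),(2,.ofNat 325),(3,.ofNat 572),(5,.ofNat 105),(6,.ofNat 295),(7,.ofNat 463),(8,.negSucc 1981),(9,.ofNat 147),(10,.negSucc 259),(11,.negSucc 22),(12,.ofNat 4),(13,.ofNat 1),(14,.ofNat 112),(15,.negSucc 3),(18,.negSucc 104),(20,.negSucc 1036),(21,.negSucc 0),(22,.negSucc 227),(23,.negSucc 24),(24,.ofNat 19),(25,.ofNat 368),(27,.ofNat 121),(28,.negSucc 4),(29,.negSucc 42),(30,.ofNat 1553),(31,.ofNat 1),(33,.ofNat 2)]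
set_option maxHeartbeats 0 in
set_option maxRecDepth 100000 in
theorem hcb14 : chkComb 6 27 rowsF 0 14 (0) cb14 = true := by decide +kernel
set_option maxRecDepth 100000 in
/-- A combination. -/
def cb15 : List (ℕ × ℤ) := [(0,.ofNat 6),(1,.negSucc 8),(2,.ofNat 3),(3,.negSucc 2),(6,.ofNat 5),(7,.negSucc 2),(8,.ofNat 6),(9,.negSucc 2),(13,.negSucc 2),(14,.negSucc 8),(20,.ofNat 3),(22,.ofNat 3),(27,.ofNat 3),(29,.negSucc 2),(30,.negSucc 2)]
set_option maxHeartbeats 0 in
set_option maxRecDepth 100000 in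
theorem hcb15 : chkComb 6 27 rowsF 0 15 (0) cb15 = true := by decide +kernel
set_option maxRecDepth 100000 in
/-- A combination. -/
def cb16 : List (ℕ × ℤ) := [(0,.ofNat 11),(1,.negSucc 16),(2,.ofNat 4),(3,.negSucc 3),(6,.ofNat 8),(7,.negSucc 4),(8,.ofNat 11),(9,.negSucc 4),(13,.negSucc 4),(14,.negSucc 11),(20,.ofNat 5),(22,.ofNat 5),(25,.negSucc 0),(27,.ofNat 5),(29,.negSucc 3),(30,.negSucc 5)]
set_option maxHeartbeats 0 in
set_option maxRecDepth 100000 in
theorem hcb16 : chkComb 6 27 rowsF 0 16 (0) cb16 = true := by decide +kernel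
set_option maxRecDepth 100000 in
/-- A combination. -/
def cb17 : List (ℕ × ℤ) := [(0,.ofNat 6),(1,.negSucc 8),(2,.ofNat 3),(3,.negSucc 2),(6,.ofNat 6),(7,.negSucc 3),(8,.ofNat 6),(9,.negSucc 2),(13,.negSucc 2),(14,.negSucc 6),(15,.negSucc 3),(20,.ofNat 3),(22,.ofNat 3),(27,.ofNat 3),(29,.negSucc 2),(30,.negSucc 2)]
set_option maxHeartbeats 0 in
set_option maxRecDepth 100000 in
theorem hcb17 : chkComb 6 27 rowsF 0 17 (0) cb17 = true := by decide +kernel
set_option maxRecDepth 100000 in
/-- A combination. -/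
def cb18 : List (ℕ × ℤ) := [(0,.ofNat 4),(1,.negSucc 5),(2,.ofNat 2),(3,.negSucc 1),(6,.ofNat 4),(7,.negSucc 1),(8,.ofNat 3),(9,.negSucc 1),(13,.negSucc 1),(14,.negSucc 4),(15,.negSucc 4),(20,.ofNat 2),(22,.ofNat 2),(27,.ofNat 2),(29,.negSucc 1),(30,.negSucc 1)]
set_option maxHeartbeats 0 in
set_option maxRecDepth 100000 in
theorem hcb18 : chkComb 6 27 rowsF 0 18 (0) cb18 = true := by decide +kernel
set_option maxRecDepth 100000 in
/-- A combination. -/
def cb19 : List (ℕ × ℤ) := [(0,.negSucc 772),(1,.ofNat 123),(2,.ofNat 93),(3,.ofNat 69),(5,.ofNat 32),(6,.ofNat 90),(7,.ofNat 57),(8,.negSucc 415),(9,.ofNat 47),(10,.negSucc 28),(11,.ofNat 6),(12,.ofNat 4),(13,.negSucc 2),(14,.ofNat 118),(15,.negSucc 1),(18,.negSucc 31),(20,.negSucc 247),(22,.negSucc 76),(23,.negSucc 4),(24,.ofNat 3),(25,.ofNat 23),(27,.negSucc 44),(28,.negSucc 0),(29,.ofNat 20),(30,.ofNat 321)]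
set_option maxHeartbeats 0 in
set_option maxRecDepth 100000 in
theorem hcb19 : chkComb 6 27 rowsF 0 19 (0) cb19 = true := by decide +kernel
set_option maxRecDepth 100000 in
/-- A combination. -/
def cb20 : List (ℕ × ℤ) := [(0,.negSucc 783),(1,.ofNat 129),(2,.ofNat 104),(3,.ofNat 70),(5,.ofNat 31),(6,.ofNat 93),(7,.ofNat 56),(8,.negSucc 416),(9,.ofNat 46),(10,.negSucc 29),(11,.ofNat 6),(12,.ofNat 4),(13,.negSucc 3),(14,.ofNat 119),(15,.negSucc 0),(18,.negSucc 30),(20,.negSucc 248),(22,.negSucc 75),(23,.negSucc 4),(24,.ofNat 3),(25,.ofNat 24),(27,.negSucc 42),(28,.negSucc 0),(29,.ofNat 19),(30,.ofNat 323)]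
set_option maxHeartbeats 0 in
set_option maxRecDepth 100000 in
theorem hcb20 : chkComb 6 27 rowsF 0 20 (0) cb20 = true := by decide +kernel
set_option maxRecDepth 100000 in
/-- A combination. -/
def cb21 : List (ℕ × ℤ) := [(0,.negSucc 108),(1,.negSucc 203),(2,.negSucc 219),(3,.negSucc 11),(5,.ofNat 46),(6,.ofNat 27),(7,.ofNat 34),(8,.negSucc 137),(9,.negSucc 5),(10,.ofNat 3),(11,.negSucc 5),(12,.ofNat 4),(14,.negSucc 8),(15,.negSucc 1),(18,.negSucc 45),(20,.negSucc 10),(22,.negSucc 9),(23,.negSucc 9),(24,.ofNat 5),(25,.ofNat 35),(27,.ofNat 17),(28,.negSucc 0),(29,.negSucc 60),(30,.ofNat 77),(32,.ofNat 1)]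
set_option maxHeartbeats 0 in
set_option maxRecDepth 100000 in
theorem hcb21 : chkComb 6 27 rowsF 0 21 (0) cb21 = true := by decide +kernel
set_option maxRecDepth 100000 in
/-- A combination. -/
def cb22 : List (ℕ × ℤ) := [(0,.negSucc 768),(1,.ofNat 117),(2,.ofNat 95),(3,.ofNat 67),(5,.ofNat 32),(6,.ofNat 94),(7,.ofNat 55),(8,.negSucc 411),(9,.ofNat 44),(10,.negSucc 28),(11,.ofNat 6),(12,.ofNat 4),(13,.negSucc 4),(14,.ofNat 116),(15,.negSucc 1),(18,.negSucc 31),(20,.negSucc 245),(22,.negSucc 74),(23,.negSucc 4),(24,.ofNat 3),(25,.ofNat 23),(27,.negSucc 42),(28,.negSucc 0),(29,.ofNat 18),(30,.ofNat 319)]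
set_option maxHeartbeats 0 in
set_option maxRecDepth 100000 in
theorem hcb22 : chkComb 6 27 rowsF 0 22 (0) cb22 = true := by decide +kernel
set_option maxRecDepth 100000 in
/-- A combination. -/
def cb23 : List (ℕ × ℤ) := [(0,.negSucc 1545),(1,.ofNat 246),(2,.ofNat 186),(3,.ofNat 138),(5,.ofNat 64),(6,.ofNat 180),(7,.ofNat 114),(8,.negSucc 831),(9,.ofNat 94),(10,.negSucc 58),(11,.ofNat 12),(12,.ofNat 8),(13,.negSucc 5),(14,.ofNat 243),(15,.ofNat 1),(18,.negSucc 63),(20,.negSucc 495),(22,.negSucc 153),(23,.negSucc 9),(24,.ofNat 6),(25,.ofNat 46),(27,.negSucc 89),(28,.negSucc 1),(29,.ofNat 40),(30,.ofNat 642)]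
set_option maxHeartbeats 0 in
set_option maxRecDepth 100000 in
theorem hcb23 : chkComb 6 27 rowsF 0 23 (0) cb23 = true := by decide +kernel
set_option maxRecDepth 100000 in
/-- A combination. -/
def cb24 : List (ℕ × ℤ) := [(0,.negSucc 770),(1,.ofNat 120),(2,.ofNat 94),(3,.ofNat 68),(5,.ofNat 32),(6,.ofNat 92),(7,.ofNat 56),(8,.negSucc 413),(9,.ofNat 46),(10,.negSucc 28),(11,.ofNat 5),(12,.ofNat 4),(13,.negSucc 3),(14,.ofNat 116),(15,.negSucc 1),(18,.negSucc 31),(20,.negSucc 246),(22,.negSucc 75),(23,.negSucc 4),(24,.ofNat 3),(25,.ofNat 23),(27,.negSucc 43),(28,.negSucc 0),(29,.ofNat 19),(30,.ofNat 320)]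
set_option maxHeartbeats 0 in
set_option maxRecDepth 100000 in
theorem hcb24 : chkComb 6 27 rowsF 0 24 (0) cb24 = true := by decide +kernel
set_option maxRecDepth 100000 in
/-- A combination. -/
def cb25 : List (ℕ × ℤ) := [(0,.ofNat 27),(1,.negSucc 24),(2,.ofNat 4),(3,.negSucc 4),(6,.ofNat 8),(7,.negSucc 4),(8,.ofNat 14),(9,.negSucc 5),(10,.ofNat 2),(11,.ofNat 1),(12,.ofNat 1),(13,.negSucc 5),(14,.negSucc 9),(15,.negSucc 5),(20,.ofNat 6),(22,.ofNat 5),(23,.negSucc 0),(25,.negSucc 2),(27,.ofNat 3),(29,.negSucc 1),(30,.negSucc 7)]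
set_option maxHeartbeats 0 in
set_option maxRecDepth 100000 in
theorem hcb25 : chkComb 6 27 rowsF 0 25 (0) cb25 = true := by decide +kernel
set_option maxRecDepth 100000 in
/-- A combination. -/
def cb26 : List (ℕ × ℤ) := [(0,.negSucc 768),(1,.ofNat 117),(2,.ofNat 95),(3,.ofNat 67),(5,.ofNat 32),(6,.ofNat 94),(7,.ofNat 55),(8,.negSucc 411),(9,.ofNat 45),(10,.negSucc 28),(11,.ofNat 6),(12,.ofNat 3),(13,.negSucc 4),(14,.ofNat 116),(15,.negSucc 1),(18,.negSucc 31),(20,.negSucc 245),(22,.negSucc 74),(23,.negSucc 4),(24,.ofNat 3),(25,.ofNat 23),(27,.negSucc 42),(28,.negSucc 0),(29,.ofNat 18),(30,.ofNat 319)]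
set_option maxHeartbeats 0 in
set_option maxRecDepth 100000 in
theorem hcb26 : chkComb 6 27 rowsF 0 26 (0) cb26 = true := by decide +kernel

theorem hcert : ∀ q, q < 27 → ∃ (a : ℤ) (L : List (ℕ × ℤ)), chkComb 6 27 rowsF 0 q a L = true ∧ (q = 0 → a = 1 - ((1 : ℕ) : ℤ)) := by
  intro q hq
  interval_cases q
  · exact ⟨0, cb0, hcb0, by norm_num⟩
  · exact ⟨0, cb1, hcb1, by norm_num⟩
  · exact ⟨0, cb2, hcb2, by norm_num⟩
  · exact ⟨0, cb3, hcb3, by norm_num⟩
  · exact ⟨0, cb4, hcb4, by norm_num⟩
  · exact ⟨0, cb5, hcb5, by norm_num⟩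
  · exact ⟨0, cb6, hcb6, by norm_num⟩
  · exact ⟨0, cb7, hcb7, by norm_num⟩
  · exact ⟨0, cb8, hcb8, by norm_num⟩
  · exact ⟨0, cb9, hcb9, by norm_num⟩
  · exact ⟨0, cb10, hcb10, by norm_num⟩
  · exact ⟨0, cb11, hcb11, by norm_num⟩
  · exact ⟨0, cb12, hcb12, by norm_num⟩
  · exact ⟨0, cb13, hcb13, by norm_num⟩
  · exact ⟨0, cb14, hcb14, by norm_num⟩
  · exact ⟨0, cb15, hcb15, by norm_num⟩
  · exact ⟨0, cb16, hcb16, by norm_num⟩
  · exact ⟨0, cb17, hcb17, by norm_num⟩
  · exact ⟨0, cb18, hcb18, by norm_num⟩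
  · exact ⟨0, cb19, hcb19, by norm_num⟩
  · exact ⟨0, cb20, hcb20, by norm_num⟩
  · exact ⟨0, cb21, hcb21, by norm_num⟩
  · exact ⟨0, cb22, hcb22, by norm_num⟩
  · exact ⟨0, cb23, hcb23, by norm_num⟩
  · exact ⟨0, cb24, hcb24, by norm_num⟩
  · exact ⟨0, cb25, hcb25, by norm_num⟩
  · exact ⟨0, cb26, hcb26, by norm_num⟩


end Cfsg.Agent.Lib.KnownSimple.MultM.S44H
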